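import Cfsg.Agent.H166.Cov.Defs
import Cfsg.Agent.H152.Blocks

/-!
# `1` as a product of conjugates of a unipotent map (task M of S2483)
-/

set_option autoImplicit false

namespace Cfsg.Agent.H151.Cov.Nilp

open Module Polynomial Cfsg.Agent.H166.Cov

universe u

variable {F : Type u} [Field F] {V : Type u} [AddCommGroup V] [Module F V]

theorem ker_bot {M : End F V} (hM : IsNilpotent M) {p : F[X]} (hp : IsCoprime p X) :
    LinearMap.ker (aeval M p) = ⊥ := by
  obtain ⟨k, hk⟩ := hM
  obtain ⟨a, b, hab⟩ := hp.pow_right (n := k)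
  have h1 : aeval M a * aeval M p = 1 := by
    have := congrArg (aeval M) hab
    rw [map_add, map_mul, map_mul, map_pow, aeval_X, hk, mul_zero, add_zero, map_one] at this
    exact this
  rw [LinearMap.ker_eq_bot']
  intro x hx
  have := congrArg (fun T : End F V => T x) h1
  simpa [hx] using this.symm

/-- a nilpotent map times a commuting unit -/
theorem sim_mul [FiniteDimensional F V] {N w : End F V} (hN : IsNilpotent N) (h : Commute N w) (hw : IsUnit w) :
    Sim N (N * w) := by
  have hNw : IsNilpotent (N * w) := h.isNilpotent_mul_right hN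
  refine Cfsg.Agent.H152.exists_equiv_of_finrank N (N * w) fun φ hφ hirr j => ?_
  by_cases hX : φ = X
  · subst hX
    rw [map_pow, map_pow, aeval_X, aeval_X]
    have hk : LinearMap.ker (N ^ j) = LinearMap.ker ((N * w) ^ j) := ?_
    · rw [hk]
    ext x
    rw [LinearMap.mem_ker, LinearMap.mem_ker, h.mul_pow, (h.pow_pow j j).eq, Module.End.mul_apply]
    constructor
    · intro hx
      rw [hx, map_zero]
    · intro hx
      have h2 : Function.Injective (w ^ j) := ((Module.End.isUnit_iff _).1 (hw.pow j)).1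
      exact h2 (by rw [hx, map_zero])
  · have hc : IsCoprime φ X := by
      refine (hirr.coprime_iff_not_dvd).2 fun hd => hX ?_
      exact Polynomial.eq_of_monic_of_associated hφ monic_X (hirr.associated_of_dvd irreducible_X hd)
    rw [ker_bot hN hc.pow_left, ker_bot hNw hc.pow_left]

theorem sim_one_add [FiniteDimensional F V] {N w : End F V} (hN : IsNilpotent N) (h : Commute N w) (hw : IsUnit w) :
    Sim (1 + N) (1 + N * w) := by
  obtain ⟨e, he⟩ := sim_mul hN h hw
  refine ⟨e, fun x => ?_⟩
  rw [LinearMap.add_apply, LinearMap.add_apply, map_add, he x]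
  rfl

theorem isUnit_aux {N v : End F V} (hN : IsNilpotent N) (h : Commute N v) {s : F} (hs : s ≠ 0) :
    IsUnit (s • (1 : End F V) + N * v) := by
  have h1 : IsNilpotent (N * v) := h.isNilpotent_mul_right hN
  refine IsNilpotent.isUnit_add_left_of_commute h1 ?_ ?_
  · refine ⟨⟨s • 1, s⁻¹ • 1, ?_, ?_⟩, rfl⟩ <;> simp [hs]
  · exact (Commute.one_right _).smul_right s

theorem exists_avoid [Finite F] (hq : 3 ≤ Nat.card F) (s : F) : ∃ r : F, r ≠ 0 ∧ r ≠ s := by
  classical
  have := Fintype.ofFinite F
  by_contra hc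
  push Not at hc
  have h1 : (Finset.univ : Finset F) ⊆ {0, s} := by
    intro x _
    rw [Finset.mem_insert, Finset.mem_singleton]
    by_cases hx : x = 0
    · exact Or.inl hx
    · exact Or.inr (hc x hx)
  have h2 := Finset.card_le_card h1
  rw [Finset.card_univ] at h2
  rw [Nat.card_eq_fintype_card] at hq
  have := Finset.card_le_two (a := (0 : F)) (b := s)
  omega

theorem exists_list [Finite F] (hq : 3 ≤ Nat.card F) [FiniteDimensional F V] {N : End F V} (hN : IsNilpotent N)
    (m : ℕ) : ∀ s : F, s ≠ 0 → ∃ L : List (End F V), L.length = m + 1 ∧ (∀ A ∈ L, Sim (1 + N) A) ∧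
      ∃ v : End F V, Commute N v ∧ L.prod = 1 + N * (s • 1 + N * v) := by
  have key : ∀ r : F, r ≠ 0 → Sim (1 + N) (1 + N * (r • (1 : End F V))) := by
    intro r hr
    refine sim_one_add hN ((Commute.one_right _).smul_right r) ?_
    have := isUnit_aux hN (Commute.zero_right N) hr
    rwa [mul_zero, add_zero] at this
  induction m with
  | zero =>
    intro s hs
    refine ⟨[1 + N * (s • 1)], rfl, ?_, 0, Commute.zero_right _, ?_⟩
    · intro A hA
      rw [List.mem_singleton] at hA
      rw [hA]
      exact key s hs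
    · rw [List.prod_singleton, mul_zero, add_zero]
  | succ m ih =>
    intro s hs
    obtain ⟨r, hr0, hrs⟩ := exists_avoid hq s
    obtain ⟨L, h1, h2, v, hv, h3⟩ := ih (s - r) (sub_ne_zero.2 (Ne.symm hrs))
    refine ⟨(1 + N * (r • 1)) :: L, by rw [List.length_cons, h1], ?_, v + r • ((s - r) • 1 + N * v), ?_, ?_⟩
    · intro A hA
      rcases List.mem_cons.1 hA with rfl | hA
      · exact key r hr0
      · exact h2 A hA
    · refine hv.add_right (Commute.smul_right ?_ r)
      exact ((Commute.one_right _).smul_right _).add_right ((Commute.refl N).mul_right hv)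
    · rw [List.prod_cons, h3]
      simp only [mul_add, add_mul, mul_smul_comm, smul_mul_assoc, mul_one, one_mul, ← mul_assoc]
      module

theorem scalar_of_nilp [Finite F] (hq : 4 ≤ Nat.card F) [FiniteDimensional F V] {N : End F V} (hN : IsNilpotent N)
    {n : ℕ} (hn : 2 ≤ n) : HP (1 + N) n (1 : End F V) := by
  obtain ⟨m, rfl⟩ := Nat.exists_eq_add_of_le hn
  obtain ⟨L, h1, h2, v, hv, h3⟩ := exists_list (by omega : 3 ≤ Nat.card F) hN m 1 one_ne_zero
  obtain ⟨u, hu⟩ : ∃ u : End F V, u = (1 : F) • 1 + N * v := ⟨_, rfl⟩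
  have hcu : Commute N u := by
    rw [hu]
    exact ((Commute.one_right _).smul_right _).add_right ((Commute.refl N).mul_right hv)
  have hu1 : IsUnit u := by rw [hu]; exact isUnit_aux hN hv one_ne_zero
  rw [← hu] at h3
  have hB : IsUnit (1 + N * u) := (hcu.isNilpotent_mul_right hN).isUnit_one_add
  obtain ⟨B, hB'⟩ := hB
  have hcB : Commute N ((B⁻¹ : (End F V)ˣ) : End F V) := by
    refine Commute.units_inv_right ?_
    rw [hB']
    exact (Commute.one_right _).add_right ((Commute.refl N).mul_right hcu)
  have h4 : ((B⁻¹ : (End F V)ˣ) : End F V) = 1 + N * (-(u * ((B⁻¹ : (End F V)ˣ) : End F V))) := by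
    have h5 : (B : End F V) * ((B⁻¹ : (End F V)ˣ) : End F V) = 1 := Units.mul_inv B
    rw [hB', add_mul, one_mul] at h5
    rw [mul_neg, ← mul_assoc, ← sub_eq_add_neg, eq_sub_iff_add_eq]
    exact h5
  refine ⟨L ++ [((B⁻¹ : (End F V)ˣ) : End F V)], ?_, ?_, ?_⟩
  · rw [List.length_append, h1, List.length_singleton]
    omega
  · intro A hA
    rcases List.mem_append.1 hA with hA | hA
    · exact h2 A hA
    · rw [List.mem_singleton] at hA
      rw [hA, h4]
      exact sim_one_add hN (hcu.mul_right hcB).neg_right ((hu1.mul (B⁻¹).isUnit).neg)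
  · rw [List.prod_append, List.prod_singleton, h3, ← hB']
    exact Units.mul_inv B

end Cfsg.Agent.H151.Cov.Nilp
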