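import Cfsg.Agent.H166.Cov.Defs

/-!
# Polynomials over a finite field with prescribed constant term (task E of S2483)
-/

set_option autoImplicit false

namespace Cfsg.Agent.H151.Cov.Poly

open Module Polynomial Cfsg.Agent.H166.Cov

universe u

variable {F : Type u} [Field F]

omit [Field F] in
/-- few values can be avoided -/
theorem exists_avoid [Finite F] (s : Finset F) (h : s.card < Nat.card F) : ∃ x : F, x ∉ s := by
  classical
  have := Fintype.ofFinite F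
  by_contra hc
  push Not at hc
  have h1 : s = Finset.univ := Finset.eq_univ_of_forall hc
  rw [h1, Finset.card_univ, Nat.card_eq_fintype_card] at h
  exact lt_irrefl _ h

theorem isCoprime_unit {a b : F[X]} (h : IsUnit b) : IsCoprime a b := by
  obtain ⟨u, rfl⟩ := h
  exact ⟨0, ↑(u⁻¹), by simp⟩

theorem deg_lin (c e : F) {d : ℕ} (hd : 2 ≤ d) : (C c * X + C e : F[X]).degree < (d : ℕ) :=
  lt_of_le_of_lt degree_linear_le (by exact_mod_cast (show 1 < d by omega))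

/-- a monic polynomial without roots, with prescribed degree at least 2 and constant term -/
theorem exists_rootless [Finite F] {d : ℕ} (hd : 2 ≤ d) {e : F} (he : e ≠ 0) :
    ∃ p : F[X], p.Monic ∧ p.natDegree = d ∧ p.coeff 0 = e ∧ ∀ x, p.eval x ≠ 0 := by
  classical
  have := Fintype.ofFinite F
  obtain ⟨c, hc⟩ := exists_avoid (((Finset.univ : Finset F).erase 0).image (fun x => -(x ^ d + e) / x)) (by
    refine lt_of_le_of_lt Finset.card_image_le ?_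
    rw [Finset.card_erase_of_mem (Finset.mem_univ _), Finset.card_univ, Nat.card_eq_fintype_card]
    have : 0 < Fintype.card F := Fintype.card_pos
    omega)
  refine ⟨X ^ d + (C c * X + C e), monic_X_pow_add (deg_lin c e hd), ?_, ?_, ?_⟩
  · rw [natDegree_add_eq_left_of_degree_lt (by rw [degree_X_pow]; exact deg_lin c e hd), natDegree_X_pow]
  · simp [coeff_X_pow, show (0 : ℕ) ≠ d by omega]
  · intro x hx
    have hx' : x ^ d + (c * x + e) = 0 := by simpa using hx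
    by_cases h0 : x = 0
    · rw [h0, zero_pow (by omega)] at hx'
      apply he
      simpa using hx'
    · apply hc
      refine Finset.mem_image.2 ⟨x, Finset.mem_erase.2 ⟨h0, Finset.mem_univ _⟩, ?_⟩
      rw [div_eq_iff h0]
      linear_combination -hx'

theorem coprime_lin {a : F} {p : F[X]} (h : p.eval a ≠ 0) : IsCoprime (X - C a) p :=
  (irreducible_X_sub_C a).coprime_iff_not_dvd.2 fun hd => h (dvd_iff_isRoot.1 hd)

theorem coprime_lin_lin {a b : F} (h : a ≠ b) : IsCoprime (X - C a) (X - C b) :=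
  coprime_lin (by simpa using sub_ne_zero.2 h)

/-- two nonzero elements with different squares, different from a given one -/
theorem exists_two [Finite F] (hq : 4 ≤ Nat.card F) (ξ : F) :
    ∃ a b : F, a ≠ 0 ∧ b ≠ 0 ∧ a ≠ ξ ∧ b ≠ ξ ∧ a ^ 2 ≠ b ^ 2 := by
  classical
  have := Fintype.ofFinite F
  obtain ⟨a, ha⟩ := exists_avoid ({0, ξ} : Finset F) (lt_of_le_of_lt Finset.card_le_two (by omega))
  obtain ⟨b, hb⟩ := exists_avoid ({0, ξ, a} : Finset F) (lt_of_le_of_lt Finset.card_le_three (by omega))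
  simp only [Finset.mem_insert, Finset.mem_singleton, not_or] at ha hb
  by_cases hab : a ^ 2 = b ^ 2
  · rcases sq_eq_sq_iff_eq_or_eq_neg.1 hab with h | h
    · exact absurd h.symm hb.2.2
    · by_cases h2 : ringChar F = 2
      · have : CharP F 2 := by rw [← h2]; exact ringChar.charP F
        rw [CharTwo.neg_eq] at h
        exact absurd h.symm hb.2.2
      · have h5 : 5 ≤ Nat.card F := by
          have h3 := FiniteField.odd_card_of_char_ne_two h2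
          rw [Nat.card_eq_fintype_card] at hq ⊢
          omega
        obtain ⟨c, hc⟩ := exists_avoid ({0, ξ, a, b} : Finset F) (lt_of_le_of_lt Finset.card_le_four (by omega))
        simp only [Finset.mem_insert, Finset.mem_singleton, not_or] at hc
        refine ⟨a, c, ha.1, hc.1, ha.2, hc.2.1, fun hac => ?_⟩
        rcases sq_eq_sq_iff_eq_or_eq_neg.1 hac with h' | h'
        · exact hc.2.2.1 h'.symm
        · apply hc.2.2.2
          rw [h] at h'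
          exact (neg_injective h').symm
  · exact ⟨a, b, ha.1, hb.1, ha.2, hb.2.1, hab⟩

theorem exists_nice [Finite F] (hq : 4 ≤ Nat.card F) {n : ℕ} (hn : 2 ≤ n) {δ : F} (hδ : δ ≠ 0) (ξ : F) :
    ∃ (ν : F) (p : F[X]), ν ≠ 0 ∧ ν ≠ ξ ∧ p.Monic ∧ p.natDegree = n - 1 ∧ p.eval ν ≠ 0 ∧
      ((X - C ν) * p).coeff 0 = (-1) ^ n * δ ∧
      ∀ r : F[X], (∀ x, r.eval x ≠ 0) → IsCoprime ((X - C ν) * p) r := by
  classical
  obtain ⟨k, rfl⟩ := Nat.exists_eq_add_of_le hn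
  obtain ⟨a, b, ha0, hb0, haξ, hbξ, hab⟩ := exists_two hq ξ
  obtain ⟨μ, hμ⟩ := exists_avoid ({0, a, b} : Finset F) (lt_of_le_of_lt Finset.card_le_three (by omega))
  simp only [Finset.mem_insert, Finset.mem_singleton, not_or] at hμ
  obtain ⟨hμ0, hμa, hμb⟩ := hμ
  obtain ⟨ν, hν0, hνξ, hνμ, hν⟩ : ∃ ν : F, ν ≠ 0 ∧ ν ≠ ξ ∧ ν ≠ μ ∧ ν ^ 2 * μ ^ k ≠ δ := by
    by_cases h : a ^ 2 * μ ^ k = δ
    · refine ⟨b, hb0, hbξ, fun h => hμb h.symm, fun h' => hab ?_⟩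
      exact mul_right_cancel₀ (pow_ne_zero k hμ0) (h.trans h'.symm)
    · exact ⟨a, ha0, haξ, fun h => hμa h.symm, h⟩
  have hk : ν * μ ^ k ≠ 0 := mul_ne_zero hν0 (pow_ne_zero k hμ0)
  refine ⟨ν, (X - C μ) ^ k * (X - C (δ / (ν * μ ^ k))), hν0, hνξ,
    ((monic_X_sub_C μ).pow k).mul (monic_X_sub_C _), ?_, ?_, ?_, ?_⟩
  · rw [((monic_X_sub_C μ).pow k).natDegree_mul (monic_X_sub_C _), natDegree_X_sub_C,
      (monic_X_sub_C μ).natDegree_pow, natDegree_X_sub_C]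
    omega
  · rw [eval_mul, eval_pow, eval_sub, eval_X, eval_C, eval_sub, eval_X, eval_C]
    refine mul_ne_zero (pow_ne_zero _ (sub_ne_zero.2 hνμ)) (sub_ne_zero.2 fun h => hν ?_)
    rw [eq_div_iff hk] at h
    rw [← h]
    ring
  · rw [coeff_zero_eq_eval_zero]
    simp only [eval_mul, eval_pow, eval_sub, eval_X, eval_C, zero_sub]
    rw [neg_pow μ k]
    field_simp
    ring
  · intro r hr
    exact (coprime_lin (hr ν)).mul_left ((coprime_lin (hr μ)).pow_left.mul_left (coprime_lin (hr _)))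

/-- a rootless polynomial is coprime to every nonzero polynomial of degree at most one -/
theorem coprime_of_rootless {p : F[X]} (hp : ∀ x, p.eval x ≠ 0) {b e : F} (h : b ≠ 0 ∨ e ≠ 0) :
    IsCoprime p (C b * X + C e) := by
  by_cases hb : b = 0
  · have he : e ≠ 0 := h.resolve_left (not_not.2 hb)
    rw [hb, C_0, zero_mul, zero_add]
    exact isCoprime_unit ((isUnit_C).2 (isUnit_iff_ne_zero.2 he))
  · have h1 : (C b * X + C e : F[X]) = C b * (X - C (-e / b)) := by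
      rw [mul_sub, ← C_mul, mul_div_cancel₀ _ hb, C_neg]
      ring
    rw [h1]
    exact (isCoprime_unit ((isUnit_C).2 (isUnit_iff_ne_zero.2 hb))).mul_right (coprime_lin (hp _)).symm

/-- the case `n₁ = 2` -/
theorem pair_two [Finite F] (hq : 4 ≤ Nat.card F) {n₂ : ℕ} (h₂ : 3 ≤ n₂) {δ₁ δ₂ : F} (hδ₁ : δ₁ ≠ 0) (hδ₂ : δ₂ ≠ 0) :
    ∃ (ν₁ ν₂ : F) (p₁ p₂ : F[X]), ν₁ ≠ ν₂ ∧ p₁.Monic ∧ p₁.natDegree = 1 ∧ p₁.eval ν₁ ≠ 0 ∧
      ((X - C ν₁) * p₁).coeff 0 = δ₁ ∧ p₂.Monic ∧ p₂.natDegree = n₂ - 1 ∧ p₂.eval ν₂ ≠ 0 ∧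
      ((X - C ν₂) * p₂).coeff 0 = δ₂ ∧ IsCoprime ((X - C ν₁) * p₁) ((X - C ν₂) * p₂) := by
  classical
  obtain ⟨a, b, ha0, hb0, -, -, hab⟩ := exists_two hq (0 : F)
  obtain ⟨ν, hν0, hν⟩ : ∃ ν : F, ν ≠ 0 ∧ ν ^ 2 ≠ δ₁ := by
    by_cases h : a ^ 2 = δ₁
    · exact ⟨b, hb0, fun h' => hab (h.trans h'.symm)⟩
    · exact ⟨a, ha0, h⟩
  obtain ⟨ν₂, h⟩ := exists_avoid ({0, ν, δ₁ / ν} : Finset F) (lt_of_le_of_lt Finset.card_le_three (by omega))
  simp only [Finset.mem_insert, Finset.mem_singleton, not_or] at h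
  obtain ⟨h0, h1, h2⟩ := h
  obtain ⟨p, hp1, hp2, hp3, hp4⟩ := exists_rootless (F := F) (d := n₂ - 1) (by omega) (e := - δ₂ / ν₂)
    (div_ne_zero (neg_ne_zero.2 hδ₂) h0)
  refine ⟨ν, ν₂, X - C (δ₁ / ν), p, fun h => h1 h.symm, monic_X_sub_C _, natDegree_X_sub_C _, ?_, ?_, hp1, hp2,
    hp4 _, ?_, ?_⟩
  · rw [eval_sub, eval_X, eval_C, sub_ne_zero]
    intro h
    apply hν
    rw [eq_div_iff hν0] at h
    rw [← h, sq]
  · rw [coeff_zero_eq_eval_zero]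
    simp only [eval_mul, eval_sub, eval_X, eval_C, zero_sub]
    field_simp
  · rw [mul_coeff_zero, hp3]
    simp only [coeff_sub, coeff_X_zero, coeff_C_zero, zero_sub]
    field_simp
  · exact IsCoprime.mul_left ((coprime_lin_lin fun h => h1 h.symm).mul_right (coprime_lin (hp4 _)))
      ((coprime_lin_lin fun h => h2 h.symm).mul_right (coprime_lin (hp4 _)))

/-- the case `3 ≤ n₁ ≤ n₂` -/
theorem pair_three [Finite F] (hq : 4 ≤ Nat.card F) {n₁ n₂ : ℕ} (h₁ : 3 ≤ n₁) (h₂ : n₁ ≤ n₂) {δ₁ δ₂ : F}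
    (hδ₁ : δ₁ ≠ 0) :
    ∃ (ν₁ ν₂ : F) (p₁ p₂ : F[X]), ν₁ ≠ ν₂ ∧ p₁.Monic ∧ p₁.natDegree = n₁ - 1 ∧ p₁.eval ν₁ ≠ 0 ∧
      ((X - C ν₁) * p₁).coeff 0 = δ₁ ∧ p₂.Monic ∧ p₂.natDegree = n₂ - 1 ∧ p₂.eval ν₂ ≠ 0 ∧
      ((X - C ν₂) * p₂).coeff 0 = δ₂ ∧ IsCoprime ((X - C ν₁) * p₁) ((X - C ν₂) * p₂) := by
  classical
  obtain ⟨ν₁, ν₂, ha0, hb0, -, -, hab⟩ := exists_two hq (0 : F)
  have hν : ν₁ ≠ ν₂ := fun h => hab (by rw [h])
  obtain ⟨p, hp1, hp2, hp3, hp4⟩ := exists_rootless (F := F) (d := n₁ - 1) (by omega) (e := - δ₁ / ν₁)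
    (div_ne_zero (neg_ne_zero.2 hδ₁) ha0)
  obtain ⟨k, hk⟩ := Nat.exists_eq_add_of_le (show n₁ - 1 ≤ n₂ - 1 by omega)
  obtain ⟨e₀, he₀⟩ : ∃ e₀ : F, e₀ = (X ^ k * p).eval 0 := ⟨_, rfl⟩
  obtain ⟨e, he⟩ : ∃ e : F, e = -δ₂ / ν₂ - e₀ := ⟨_, rfl⟩
  obtain ⟨b, hb⟩ := exists_avoid ({0, -((X ^ k * p).eval ν₁ + e) / ν₁, -((X ^ k * p).eval ν₂ + e) / ν₂} : Finset F)
    (lt_of_le_of_lt Finset.card_le_three (by omega))
  simp only [Finset.mem_insert, Finset.mem_singleton, not_or] at hb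
  obtain ⟨hb0', hb1, hb2⟩ := hb
  have hdeg : (C b * X + C e : F[X]).degree < (X ^ k * p).degree := by
    rw [degree_mul, degree_X_pow, degree_eq_natDegree hp1.ne_zero, hp2]
    refine lt_of_le_of_lt degree_linear_le ?_
    have : 1 < k + (n₁ - 1) := by omega
    exact_mod_cast this
  have hmon : (X ^ k * p).Monic := (monic_X_pow k).mul hp1
  have hcop : IsCoprime p (X ^ k * p + (C b * X + C e)) := by
    have := (coprime_of_rootless hp4 (e := e) (Or.inl hb0')).add_mul_right_right (X ^ k)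
    rwa [add_comm] at this
  have hev : ∀ ν : F, ν ≠ 0 → b ≠ -((X ^ k * p).eval ν + e) / ν → (X ^ k * p + (C b * X + C e)).eval ν ≠ 0 := by
    intro ν hν0 hbν h
    apply hbν
    rw [eq_div_iff hν0]
    rw [eval_add, eval_add, eval_mul (p := C b), eval_C, eval_C, eval_X] at h
    linear_combination h
  have hev1 := hev ν₁ ha0 hb1
  have hev2 := hev ν₂ hb0 hb2
  refine ⟨ν₁, ν₂, p, X ^ k * p + (C b * X + C e), hν, hp1, hp2, hp4 _, ?_, hmon.add_of_left hdeg, ?_, hev2, ?_, ?_⟩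
  · rw [mul_coeff_zero, hp3]
    simp only [coeff_sub, coeff_X_zero, coeff_C_zero, zero_sub]
    field_simp
  · rw [natDegree_add_eq_left_of_degree_lt hdeg, (monic_X_pow k).natDegree_mul hp1, natDegree_X_pow, hp2]
    omega
  · rw [coeff_zero_eq_eval_zero]
    rw [eval_mul, eval_add, ← he₀, eval_sub, eval_X, eval_C, eval_add, eval_mul, eval_C, eval_C, eval_X, he]
    field_simp
    ring
  · exact IsCoprime.mul_left ((coprime_lin_lin hν).mul_right (coprime_lin hev1))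
      ((coprime_lin (hp4 _)).symm.mul_right hcop)

theorem exists_pair [Finite F] (hq : 4 ≤ Nat.card F) {n₁ n₂ : ℕ} (h₁ : 2 ≤ n₁) (h₂ : 2 ≤ n₂)
    (h : ¬ (n₁ = 2 ∧ n₂ = 2)) {δ₁ δ₂ : F} (hδ₁ : δ₁ ≠ 0) (hδ₂ : δ₂ ≠ 0) :
    ∃ (ν₁ ν₂ : F) (p₁ p₂ : F[X]), ν₁ ≠ ν₂ ∧ p₁.Monic ∧ p₁.natDegree = n₁ - 1 ∧ p₁.eval ν₁ ≠ 0 ∧
      ((X - C ν₁) * p₁).coeff 0 = (-1) ^ n₁ * δ₁ ∧ p₂.Monic ∧ p₂.natDegree = n₂ - 1 ∧ p₂.eval ν₂ ≠ 0 ∧
      ((X - C ν₂) * p₂).coeff 0 = (-1) ^ n₂ * δ₂ ∧ IsCoprime ((X - C ν₁) * p₁) ((X - C ν₂) * p₂) := by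
  have hδ₁' : (-1) ^ n₁ * δ₁ ≠ 0 := mul_ne_zero (pow_ne_zero _ (neg_ne_zero.2 one_ne_zero)) hδ₁
  have hδ₂' : (-1) ^ n₂ * δ₂ ≠ 0 := mul_ne_zero (pow_ne_zero _ (neg_ne_zero.2 one_ne_zero)) hδ₂
  rcases le_total n₁ n₂ with hle | hle
  · by_cases h3 : 3 ≤ n₁
    · exact pair_three hq h3 hle hδ₁'
    · obtain rfl : n₁ = 2 := by omega
      exact pair_two hq (by omega) hδ₁' hδ₂'
  · by_cases h3 : 3 ≤ n₂
    · obtain ⟨a, b, p, r, c1, c2, c3, c4, c5, c6, c7, c8, c9, c10⟩ := pair_three hq h3 hle hδ₂'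
      exact ⟨b, a, r, p, c1.symm, c6, c7, c8, c9, c2, c3, c4, c5, c10.symm⟩
    · obtain rfl : n₂ = 2 := by omega
      obtain ⟨a, b, p, r, c1, c2, c3, c4, c5, c6, c7, c8, c9, c10⟩ :=
        pair_two hq (show 3 ≤ n₁ by omega) hδ₂' hδ₁'
      exact ⟨b, a, r, p, c1.symm, c6, c7, c8, c9, c2, c3, c4, c5, c10.symm⟩

end Cfsg.Agent.H151.Cov.Poly
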